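import Cfsg.Agent.AltNineCube.Classes

/-!
# Conjugation to class representatives (generated table)
-/

set_option autoImplicit false
set_option maxRecDepth 20000

namespace CfsgLib.AltNineCube

/-- Encoded conjugating elements by linear part and translation. -/
def conjTab : List (List ℕ) :=
  [[0, 16, 46, 10, 10, 46, 302, 302, 111, 0, 16, 27, 0, 0, 32, 97, 74, 111, 293, 305, 319, 225, 234, 261, 293, 293, 325],
    [330, 82, 354, 258, 10, 282, 402, 154, 239, 96, 99, 120, 24, 0, 48, 168, 171, 1, 318, 391, 292, 317, 293, 220, 245, 247, 269],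
    [318, 247, 220, 293, 292, 245, 269, 317, 391, 318, 247, 220, 293, 292, 245, 269, 317, 391, 318, 247, 220, 293, 292, 245, 269, 317, 391],
    [96, 0, 1, 48, 168, 99, 171, 120, 24, 96, 0, 1, 48, 168, 99, 171, 120, 24, 96, 0, 1, 48, 168, 99, 171, 120, 24],
    [256, 243, 280, 465, 226, 489, 324, 518, 517, 40, 16, 64, 249, 10, 273, 108, 302, 301, 472, 459, 496, 33, 442, 57, 540, 86, 564],
    [320, 304, 334, 216, 232, 262, 392, 376, 260, 104, 88, 118, 0, 16, 46, 176, 160, 44, 536, 520, 550, 432, 448, 478, 37, 17, 47],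
    [226, 226, 327, 298, 399, 298, 255, 370, 370, 10, 10, 111, 82, 183, 82, 39, 154, 154, 442, 442, 543, 514, 615, 514, 471, 586, 586],
    [446, 446, 334, 467, 518, 518, 590, 262, 590, 230, 230, 118, 251, 302, 302, 374, 46, 374, 14, 14, 179, 35, 86, 86, 158, 107, 158],
    [24, 0, 48, 24, 0, 48, 317, 293, 229, 240, 216, 8, 245, 509, 373, 240, 216, 264, 349, 77, 301, 96, 432, 80, 96, 432, 120],
    [334, 334, 334, 478, 478, 478, 44, 44, 44, 46, 46, 46, 260, 260, 260, 550, 550, 550, 47, 47, 47, 118, 118, 118, 262, 262, 262],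
    [0, 10, 10, 0, 82, 82, 0, 154, 154, 216, 298, 298, 216, 370, 88, 216, 226, 226, 432, 40, 64, 432, 442, 442, 432, 514, 514],
    [14, 77, 14, 86, 77, 86, 233, 77, 158, 302, 293, 302, 374, 293, 374, 230, 293, 230, 353, 509, 329, 446, 509, 446, 518, 509, 518],
    [304, 304, 304, 16, 16, 16, 17, 17, 17, 160, 160, 160, 520, 520, 520, 232, 232, 232, 448, 448, 448, 376, 376, 376, 88, 88, 88],
    [393, 369, 4, 249, 225, 273, 324, 25, 1, 36, 97, 73, 249, 225, 273, 321, 297, 220, 393, 369, 292, 108, 84, 289, 321, 297, 345],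
    [543, 44, 543, 116, 140, 92, 332, 164, 188, 39, 39, 39, 111, 111, 111, 183, 183, 183, 399, 44, 399, 116, 255, 92, 327, 327, 327],
    [395, 244, 395, 251, 261, 251, 323, 323, 323, 539, 539, 539, 237, 261, 285, 467, 477, 333, 35, 35, 35, 237, 261, 285, 453, 477, 333],
    [325, 319, 319, 397, 359, 311, 253, 37, 469, 325, 109, 541, 397, 181, 613, 253, 37, 469, 325, 109, 541, 397, 391, 391, 253, 37, 469],
    [19, 523, 547, 84, 523, 506, 19, 523, 362, 91, 115, 139, 74, 74, 74, 91, 115, 98, 12, 170, 307, 290, 290, 290, 146, 146, 146],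
    [465, 442, 273, 465, 442, 273, 465, 442, 273, 10, 489, 33, 10, 489, 33, 10, 489, 33, 57, 249, 226, 57, 249, 226, 57, 249, 226],
    [88, 112, 391, 16, 40, 319, 160, 184, 247, 88, 607, 304, 16, 535, 232, 160, 463, 376, 333, 112, 304, 261, 40, 232, 31, 184, 376],
    [22, 176, 392, 27, 32, 27, 315, 104, 320, 171, 176, 392, 243, 32, 248, 536, 104, 320, 608, 176, 392, 464, 32, 248, 99, 104, 320],
    [6, 225, 6, 18, 297, 522, 18, 378, 249, 222, 234, 258, 282, 234, 258, 282, 234, 258, 474, 225, 450, 474, 306, 450, 474, 306, 450],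
    [324, 302, 564, 324, 302, 564, 324, 302, 564, 301, 540, 518, 301, 540, 518, 301, 540, 518, 86, 517, 108, 86, 517, 108, 86, 517, 108],
    [531, 78, 531, 459, 305, 459, 20, 233, 260, 99, 99, 294, 27, 27, 222, 171, 171, 257, 510, 315, 315, 89, 243, 243, 17, 44, 387]]

/-- The conjugating element. -/
def conjElt (x : Af) : Af :=
  let e := tab conjTab x.m (9 * (x.a : ℕ) + 3 * (x.b : ℕ) + (x.c : ℕ))
  ⟨Fin.ofNat 3 (e / 24 / 9), Fin.ofNat 3 (e / 24 / 3), Fin.ofNat 3 (e / 24), Fin.ofNat 24 e⟩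

theorem conjElt_spec : ∀ x : Af, conjElt x * Af.rep (Af.cls x) * (conjElt x)⁻¹ = x := by
  decide +kernel

theorem npairs_eq (t : Fin 3) (x : Af) :
    Af.npairs (pairCls t).1 (pairCls t).2 x = nTab t (Af.cls x) := by
  rw [← npairs_gen t (Af.cls x)]
  conv_lhs => rw [← conjElt_spec x]
  exact Af.npairs_conj _ _ _ _

end CfsgLib.AltNineCube
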