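import Mathlib

/-!
# Tables for the group `3^3 : S4` of monomial affine maps (generated)
-/

set_option autoImplicit false

namespace CfsgLib.AltNineCube.Data

/-- multiplication of linear parts -/
def mulTab : List (List ℕ) := [[0, 1, 2, 3, 4, 5, 6, 7, 8, 9, 10, 11, 12, 13, 14, 15, 16, 17, 18, 19, 20, 21, 22, 23], [1, 0, 3, 2, 5, 4, 7, 6, 12, 13, 15, 14, 8, 9, 11, 10, 20, 21, 23, 22, 16, 17, 19, 18], [2, 3, 1, 0, 6, 7, 5, 4, 16, 17, 19, 18, 20, 21, 23, 22, 12, 13, 14, 15, 8, 9, 10, 11], [3, 2, 0, 1, 7, 6, 4, 5, 20, 21, 22, 23, 16, 17, 18, 19, 8, 9, 11, 10, 12, 13, 15, 14], [4, 5, 7, 6, 0, 1, 3, 2, 9, 8, 11, 10, 13, 12, 15, 14, 21, 20, 22, 23, 17, 16, 18, 19], [5, 4, 6, 7, 1, 0, 2, 3, 13, 12, 14, 15, 9, 8, 10, 11, 17,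 16, 19, 18, 21, 20, 23, 22], [6, 7, 4, 5, 2, 3, 0, 1, 17, 16, 18, 19, 21, 20, 22, 23, 9, 8, 10, 11, 13, 12, 14, 15], [7, 6, 5, 4, 3, 2, 1, 0, 21, 20, 23, 22, 17, 16, 19, 18, 13, 12, 15, 14, 9, 8, 11, 10], [8, 9, 11, 10, 12, 13, 15, 14, 0, 1, 3, 2, 4, 5, 7, 6, 22, 23, 20, 21, 18, 19, 16, 17], [9, 8, 10, 11, 13, 12, 14, 15, 4, 5, 6, 7, 0, 1, 2, 3, 18, 19, 17, 16, 22, 23, 21, 20], [10, 11, 8, 9, 14, 15, 12, 13, 18, 19, 16, 17, 22, 23, 20, 21, 0, 1, 2, 3, 4, 5, 6, 7], [11, 10, 9, 8, 15, 14, 13, 12, 22, 23, 21, 20, 18, 19, 17, 16, 4, 5, 7, 6, 0, 1, 3, 2], [12, 13, 14, 15, 8, 9, 10, 11, 1, 0, 2, 3, 5, 4, 6, 7, 19, 18, 16, 17, 23, 22, 20, 21], [13, 12, 15, 14, 9, 8, 11, 10, 5, 4, 7, 6, 1, 0, 3, 2, 23, 22, 21, 20, 19, 18, 17,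 16], [14, 15, 13, 12, 10, 11, 9, 8, 19, 18, 17, 16, 23, 22, 21, 20, 5, 4, 6, 7, 1, 0, 2, 3], [15, 14, 12, 13, 11, 10, 8, 9, 23, 22, 20, 21, 19, 18, 16, 17, 1, 0, 3, 2, 5, 4, 7, 6], [16, 17, 18, 19, 20, 21, 22, 23, 2, 3, 0, 1, 6, 7, 4, 5, 10, 11, 8, 9, 14, 15, 12, 13], [17, 16, 19, 18, 21, 20, 23, 22, 6, 7, 5, 4, 2, 3, 1, 0, 14, 15, 13, 12, 10, 11, 9, 8], [18, 19, 17, 16, 22, 23, 21, 20, 10, 11, 9, 8, 14, 15, 13, 12, 6, 7, 4, 5, 2, 3, 0, 1], [19, 18, 16, 17, 23, 22, 20, 21, 14, 15, 12, 13, 10, 11, 8, 9, 2, 3, 1, 0, 6, 7, 5, 4], [20, 21, 23, 22, 16, 17, 19, 18, 3, 2, 1, 0, 7, 6, 5, 4, 15, 14, 12, 13, 11, 10, 8, 9], [21, 20, 22, 23, 17, 16, 18, 19, 7, 6, 4, 5, 3, 2, 0, 1, 11, 10, 9, 8, 15, 14, 13, 12], [22, 23, 20, 21, 18,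 19, 16, 17, 11, 10, 8, 9, 15, 14, 12, 13, 3, 2, 0, 1, 7, 6, 4, 5], [23, 22, 21, 20, 19, 18, 17, 16, 15, 14, 13, 12, 11, 10, 9, 8, 7, 6, 5, 4, 3, 2, 1, 0]]

/-- inversion of linear parts -/
def invTab : List ℕ := [0, 1, 3, 2, 4, 5, 6, 7, 8, 12, 16, 20, 9, 13, 21, 17, 10, 15, 22, 19, 11, 14, 18, 23]

/-- block permutations -/
def permTab : List (List ℕ) := [[0, 1, 2], [0, 1, 2], [0, 2, 1], [0, 2, 1], [0, 1, 2], [0, 1, 2], [0, 2, 1], [0, 2, 1], [1, 0, 2], [1, 0, 2], [1, 2, 0], [1, 2, 0], [1, 0, 2], [1, 0, 2], [1, 2, 0], [1, 2, 0], [2, 0, 1], [2, 0, 1], [2, 1, 0], [2, 1, 0], [2, 0, 1], [2, 0, 1], [2, 1, 0], [2, 1, 0]]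

/-- negated source blocks -/
def negTab : List (List ℕ) := [[0, 0, 0], [0, 1, 1], [0, 0, 1], [0, 1, 0], [1, 0, 1], [1, 1, 0], [1, 0, 0], [1, 1, 1], [0, 0, 1], [0, 1, 0], [0, 0, 0], [0, 1, 1], [1, 0, 0], [1, 1, 1], [1, 0, 1], [1, 1, 0], [0, 0, 0], [0, 1, 1], [0, 0, 1], [0, 1, 0], [1, 0, 1], [1, 1, 0], [1, 0, 0], [1, 1, 1]]

/-- conjugacy classes by linear part and translation -/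
def clsTab : List (List ℕ) := [[0, 1, 1, 1, 11, 11, 1, 11, 11, 1, 11, 11, 11, 13, 13, 11, 13, 13, 1, 11, 11, 11, 13, 13, 11, 13, 13], [3, 3, 3, 3, 3, 3, 3, 3, 3, 12, 12, 12, 12, 12, 12, 12, 12, 12, 12, 12, 12, 12, 12, 12, 12, 12, 12], [7, 7, 7, 7, 7, 7, 7, 7, 7, 10, 10, 10, 10, 10, 10, 10, 10, 10, 9, 9, 9, 9, 9, 9, 9, 9, 9], [7, 7, 7, 7, 7, 7, 7, 7, 7, 9, 9, 9, 9, 9, 9, 9, 9, 9, 10, 10, 10, 10, 10, 10, 10, 10, 10], [3, 3, 3, 12, 12, 12, 12, 12, 12, 3, 3, 3, 12, 12, 12, 12, 12, 12, 3, 3, 3, 12, 12, 12, 12, 12, 12], [3, 12, 12, 3, 12, 12, 3, 12, 12, 3, 12, 12, 3, 12, 12, 3, 12, 12, 3, 12, 12, 3, 12, 12, 3, 12, 12], [4, 6, 6, 6, 6, 4, 6, 4, 6, 4, 6, 6, 6, 6, 4, 6, 4, 6, 4, 6, 6, 6, 6, 4, 6, 4, 6], [4, 6, 6, 6, 4, 6, 6, 6,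 4, 4, 6, 6, 6, 4, 6, 6, 6, 4, 4, 6, 6, 6, 4, 6, 6, 6, 4], [4, 4, 4, 6, 6, 6, 6, 6, 6, 6, 6, 6, 6, 6, 6, 4, 4, 4, 6, 6, 6, 4, 4, 4, 6, 6, 6], [7, 10, 9, 7, 10, 9, 7, 10, 9, 7, 10, 9, 7, 10, 9, 7, 10, 9, 7, 10, 9, 7, 10, 9, 7, 10, 9], [2, 5, 8, 5, 8, 2, 8, 2, 5, 5, 8, 2, 8, 2, 5, 2, 5, 8, 8, 2, 5, 2, 5, 8, 5, 8, 2], [2, 5, 8, 8, 2, 5, 5, 8, 2, 8, 2, 5, 5, 8, 2, 2, 5, 8, 5, 8, 2, 2, 5, 8, 8, 2, 5], [7, 9, 10, 7, 9, 10, 7, 9, 10, 7, 9, 10, 7, 9, 10, 7, 9, 10, 7, 9, 10, 7, 9, 10, 7, 9, 10], [4, 4, 4, 6, 6, 6, 6, 6, 6, 6, 6, 6, 4, 4, 4, 6, 6, 6, 6, 6, 6, 6, 6, 6, 4, 4, 4], [2, 8, 5, 8, 5, 2, 5, 2, 8, 5, 2, 8, 2, 8, 5, 8, 5, 2, 8, 5, 2, 5, 2, 8, 2, 8, 5], [2, 8, 5, 5, 2, 8, 8, 5, 2, 8, 5, 2, 2, 8, 5, 5, 2, 8, 5, 2, 8, 8, 5,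 2, 2, 8, 5], [2, 8, 5, 8, 5, 2, 5, 2, 8, 8, 5, 2, 5, 2, 8, 2, 8, 5, 5, 2, 8, 2, 8, 5, 8, 5, 2], [2, 5, 8, 8, 2, 5, 5, 8, 2, 5, 8, 2, 2, 5, 8, 8, 2, 5, 8, 2, 5, 5, 8, 2, 2, 5, 8], [7, 7, 7, 9, 9, 9, 10, 10, 10, 7, 7, 7, 9, 9, 9, 10, 10, 10, 7, 7, 7, 9, 9, 9, 10, 10, 10], [4, 6, 6, 4, 6, 6, 4, 6, 6, 6, 6, 4, 6, 6, 4, 6, 6, 4, 6, 4, 6, 6, 4, 6, 6, 4, 6], [2, 8, 5, 5, 2, 8, 8, 5, 2, 5, 2, 8, 8, 5, 2, 2, 8, 5, 8, 5, 2, 2, 8, 5, 5, 2, 8], [2, 5, 8, 5, 8, 2, 8, 2, 5, 8, 2, 5, 2, 5, 8, 5, 8, 2, 5, 8, 2, 8, 2, 5, 2, 5, 8], [7, 7, 7, 10, 10, 10, 9, 9, 9, 7, 7, 7, 10, 10, 10, 9, 9, 9, 7, 7, 7, 10, 10, 10, 9, 9, 9], [4, 6, 6, 4, 6, 6, 4, 6, 6, 6, 4, 6, 6, 4, 6, 6, 4, 6, 6, 6, 4, 6, 6, 4, 6, 6, 4]]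

/-- class representatives -/
def repTab : List (List ℕ) := [[0, 0, 0, 0], [1, 0, 0, 0], [0, 0, 0, 10], [1, 1, 0, 5], [0, 0, 1, 8], [0, 1, 0, 10], [0, 1, 1, 8], [0, 0, 1, 3], [0, 2, 0, 10], [1, 0, 1, 3], [2, 0, 1, 3], [1, 1, 0, 0], [1, 1, 1, 1], [1, 1, 1, 0]]

/-- class sizes -/
def sizeTab : List ℕ := [1, 6, 72, 27, 54, 72, 108, 54, 72, 54, 54, 12, 54, 8]

/-- permutation, exponents and dual vectors of the monomial character one -/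
def mon_one : List (List ℕ) × List (List ℕ) × List (List ℕ) :=
  ([[0], [0], [0], [0], [0], [0], [0], [0], [0], [0], [0], [0], [0], [0], [0], [0], [0], [0], [0], [0], [0], [0], [0], [0]],
   [[0], [0], [0], [0], [0], [0], [0], [0], [0], [0], [0], [0], [0], [0], [0], [0], [0], [0], [0], [0], [0], [0], [0], [0]],
   [[0, 0, 0]])

/-- permutation, exponents and dual vectors of the monomial character pi3 -/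
def mon_pi3 : List (List ℕ) × List (List ℕ) × List (List ℕ) :=
  ([[0, 1, 2], [0, 1, 2], [0, 2, 1], [0, 2, 1], [0, 1, 2], [0, 1, 2], [0, 2, 1], [0, 2, 1], [1, 0, 2], [1, 0, 2], [1, 2, 0], [1, 2, 0], [1, 0, 2], [1, 0, 2], [1, 2, 0], [1, 2, 0], [2, 0, 1], [2, 0, 1], [2, 1, 0], [2, 1, 0], [2, 0, 1], [2, 0, 1], [2, 1, 0], [2, 1, 0]],
   [[0, 0, 0], [0, 0, 0], [0, 0, 0], [0, 0, 0], [0, 0, 0], [0, 0, 0], [0, 0, 0], [0, 0, 0], [0, 0, 0], [0, 0, 0], [0, 0, 0], [0, 0, 0], [0, 0, 0], [0, 0, 0], [0, 0, 0], [0, 0, 0], [0, 0, 0], [0, 0, 0], [0, 0, 0], [0, 0, 0], [0, 0, 0], [0, 0, 0], [0, 0, 0], [0, 0, 0]],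
   [[0, 0, 0], [0, 0, 0], [0, 0, 0]])

/-- permutation, exponents and dual vectors of the monomial character M -/
def mon_M : List (List ℕ) × List (List ℕ) × List (List ℕ) :=
  ([[0, 1, 2], [0, 1, 2], [0, 2, 1], [0, 2, 1], [0, 1, 2], [0, 1, 2], [0, 2, 1], [0, 2, 1], [1, 0, 2], [1, 0, 2], [1, 2, 0], [1, 2, 0], [1, 0, 2], [1, 0, 2], [1, 2, 0], [1, 2, 0], [2, 0, 1], [2, 0, 1], [2, 1, 0], [2, 1, 0], [2, 0, 1], [2, 0, 1], [2, 1, 0], [2, 1, 0]],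
   [[0, 0, 0], [0, 6, 6], [0, 0, 6], [0, 6, 0], [6, 0, 6], [6, 6, 0], [6, 0, 0], [6, 6, 6], [0, 0, 6], [0, 6, 0], [0, 0, 0], [0, 6, 6], [6, 0, 0], [6, 6, 6], [6, 0, 6], [6, 6, 0], [0, 0, 0], [0, 6, 6], [0, 0, 6], [0, 6, 0], [6, 0, 6], [6, 6, 0], [6, 0, 0], [6, 6, 6]],
   [[0, 0, 0], [0, 0, 0], [0, 0, 0]])

/-- permutation, exponents and dual vectors of the monomial character N -/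
def mon_N : List (List ℕ) × List (List ℕ) × List (List ℕ) :=
  ([[0, 1, 2], [0, 1, 2], [0, 2, 1], [0, 2, 1], [0, 1, 2], [0, 1, 2], [0, 2, 1], [0, 2, 1], [1, 0, 2], [1, 0, 2], [1, 2, 0], [1, 2, 0], [1, 0, 2], [1, 0, 2], [1, 2, 0], [1, 2, 0], [2, 0, 1], [2, 0, 1], [2, 1, 0], [2, 1, 0], [2, 0, 1], [2, 0, 1], [2, 1, 0], [2, 1, 0]],
   [[0, 0, 0], [0, 6, 6], [6, 6, 0], [6, 0, 6], [6, 0, 6], [6, 6, 0], [0, 6, 6], [0, 0, 0], [6, 6, 0], [6, 0, 6], [0, 0, 0], [0, 6, 6], [0, 6, 6], [0, 0, 0], [6, 0, 6], [6, 6, 0], [0, 0, 0], [0, 6, 6], [6, 6, 0], [6, 0, 6], [6, 0, 6], [6, 6, 0], [0, 6, 6], [0, 0, 0]],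
   [[0, 0, 0], [0, 0, 0], [0, 0, 0]])

/-- permutation, exponents and dual vectors of the monomial character A -/
def mon_A : List (List ℕ) × List (List ℕ) × List (List ℕ) :=
  ([[0, 1, 2, 3, 4, 5], [0, 1, 3, 2, 5, 4], [0, 1, 4, 5, 3, 2], [0, 1, 5, 4, 2, 3], [1, 0, 2, 3, 5, 4], [1, 0, 3, 2, 4, 5], [1, 0, 4, 5, 2, 3], [1, 0, 5, 4, 3, 2], [2, 3, 0, 1, 5, 4], [2, 3, 1, 0, 4, 5], [2, 3, 4, 5, 0, 1], [2, 3, 5, 4, 1, 0], [3, 2, 0, 1, 4, 5], [3, 2, 1, 0, 5, 4], [3, 2, 4, 5, 1, 0], [3, 2, 5, 4, 0, 1], [4, 5, 0, 1, 2, 3], [4, 5, 1, 0, 3, 2], [4, 5, 2, 3, 1, 0], [4, 5, 3, 2, 0, 1], [5, 4, 0, 1, 3, 2], [5, 4, 1, 0, 2, 3], [5, 4, 2, 3, 0, 1], [5, 4, 3, 2, 1, 0]],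
   [[0, 0, 0, 0, 0, 0], [0, 0, 0, 0, 0, 0], [0, 0, 0, 0, 0, 0], [0, 0, 0, 0, 0, 0], [0, 0, 0, 0, 0, 0], [0, 0, 0, 0, 0, 0], [0, 0, 0, 0, 0, 0], [0, 0, 0, 0, 0, 0], [0, 0, 0, 0, 0, 0], [0, 0, 0, 0, 0, 0], [0, 0, 0, 0, 0, 0], [0, 0, 0, 0, 0, 0], [0, 0, 0, 0, 0, 0], [0, 0, 0, 0, 0, 0], [0, 0, 0, 0, 0, 0], [0, 0, 0, 0, 0, 0], [0, 0, 0, 0, 0, 0], [0, 0, 0, 0, 0, 0], [0, 0, 0, 0, 0, 0], [0, 0, 0, 0, 0, 0], [0, 0, 0, 0, 0, 0], [0, 0, 0, 0, 0, 0], [0, 0, 0, 0, 0, 0], [0, 0, 0, 0, 0, 0]],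
   [[1, 0, 0], [2, 0, 0], [0, 1, 0], [0, 2, 0], [0, 0, 1], [0, 0, 2]])

/-- permutation, exponents and dual vectors of the monomial character A1 -/
def mon_A1 : List (List ℕ) × List (List ℕ) × List (List ℕ) :=
  ([[0, 1, 2, 3, 4, 5], [0, 1, 3, 2, 5, 4], [0, 1, 4, 5, 3, 2], [0, 1, 5, 4, 2, 3], [1, 0, 2, 3, 5, 4], [1, 0, 3, 2, 4, 5], [1, 0, 4, 5, 2, 3], [1, 0, 5, 4, 3, 2], [2, 3, 0, 1, 5, 4], [2, 3, 1, 0, 4, 5], [2, 3, 4, 5, 0, 1], [2, 3, 5, 4, 1, 0], [3, 2, 0, 1, 4, 5], [3, 2, 1, 0, 5, 4], [3, 2, 4, 5, 1, 0], [3, 2, 5, 4, 0, 1], [4, 5, 0, 1, 2, 3], [4, 5, 1, 0, 3, 2], [4, 5, 2, 3, 1, 0], [4, 5, 3, 2, 0, 1], [5, 4, 0, 1, 3, 2], [5, 4, 1, 0, 2, 3], [5, 4, 2, 3, 0, 1], [5, 4, 3, 2, 1, 0]],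
   [[0, 0, 0, 0, 0, 0], [6, 6, 0, 0, 0, 0], [3, 9, 0, 0, 0, 0], [9, 3, 0, 0, 0, 0], [0, 0, 6, 6, 6, 6], [6, 6, 6, 6, 6, 6], [9, 3, 6, 6, 6, 6], [3, 9, 6, 6, 6, 6], [0, 0, 0, 0, 9, 3], [6, 6, 0, 0, 3, 9], [9, 3, 3, 9, 0, 0], [3, 9, 9, 3, 0, 0], [0, 0, 6, 6, 9, 3], [6, 6, 6, 6, 3, 9], [3, 9, 9, 3, 6, 6], [9, 3, 3, 9, 6, 6], [0, 0, 3, 9, 9, 3], [6, 6, 9, 3, 3, 9], [3, 9, 9, 3, 9, 3], [9, 3, 3, 9, 3, 9], [0, 0, 9, 3, 9, 3], [6, 6, 3, 9, 3, 9], [9, 3, 3, 9, 9, 3], [3, 9, 9, 3, 3, 9]],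
   [[1, 0, 0], [2, 0, 0], [0, 1, 0], [0, 2, 0], [0, 0, 1], [0, 0, 2]])

/-- permutation, exponents and dual vectors of the monomial character A2 -/
def mon_A2 : List (List ℕ) × List (List ℕ) × List (List ℕ) :=
  ([[0, 1, 2, 3, 4, 5], [0, 1, 3, 2, 5, 4], [0, 1, 4, 5, 3, 2], [0, 1, 5, 4, 2, 3], [1, 0, 2, 3, 5, 4], [1, 0, 3, 2, 4, 5], [1, 0, 4, 5, 2, 3], [1, 0, 5, 4, 3, 2], [2, 3, 0, 1, 5, 4], [2, 3, 1, 0, 4, 5], [2, 3, 4, 5, 0, 1], [2, 3, 5, 4, 1, 0], [3, 2, 0, 1, 4, 5], [3, 2, 1, 0, 5, 4], [3, 2, 4, 5, 1, 0], [3, 2, 5, 4, 0, 1], [4, 5, 0, 1, 2, 3], [4, 5, 1, 0, 3, 2], [4, 5, 2, 3, 1, 0], [4, 5, 3, 2, 0, 1], [5, 4, 0, 1, 3, 2], [5, 4, 1, 0, 2, 3], [5, 4, 2, 3, 0, 1], [5, 4, 3, 2, 1, 0]],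
   [[0, 0, 0, 0, 0, 0], [6, 6, 0, 0, 0, 0], [9, 3, 0, 0, 0, 0], [3, 9, 0, 0, 0, 0], [0, 0, 6, 6, 6, 6], [6, 6, 6, 6, 6, 6], [3, 9, 6, 6, 6, 6], [9, 3, 6, 6, 6, 6], [0, 0, 0, 0, 3, 9], [6, 6, 0, 0, 9, 3], [3, 9, 9, 3, 0, 0], [9, 3, 3, 9, 0, 0], [0, 0, 6, 6, 3, 9], [6, 6, 6, 6, 9, 3], [9, 3, 3, 9, 6, 6], [3, 9, 9, 3, 6, 6], [0, 0, 9, 3, 3, 9], [6, 6, 3, 9, 9, 3], [9, 3, 3, 9, 3, 9], [3, 9, 9, 3, 9, 3], [0, 0, 3, 9, 3, 9], [6, 6, 9, 3, 9, 3], [3, 9, 9, 3, 3, 9], [9, 3, 3, 9, 9, 3]],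
   [[1, 0, 0], [2, 0, 0], [0, 1, 0], [0, 2, 0], [0, 0, 1], [0, 0, 2]])

/-- permutation, exponents and dual vectors of the monomial character C1 -/
def mon_C1 : List (List ℕ) × List (List ℕ) × List (List ℕ) :=
  ([[0, 1, 2, 3, 4, 5, 6, 7], [1, 0, 3, 2, 5, 4, 7, 6], [2, 3, 1, 0, 6, 7, 5, 4], [3, 2, 0, 1, 7, 6, 4, 5], [4, 5, 7, 6, 0, 1, 3, 2], [5, 4, 6, 7, 1, 0, 2, 3], [6, 7, 4, 5, 2, 3, 0, 1], [7, 6, 5, 4, 3, 2, 1, 0], [3, 6, 4, 0, 2, 7, 1, 5], [6, 3, 0, 4, 7, 2, 5, 1], [0, 4, 3, 6, 5, 1, 2, 7], [4, 0, 6, 3, 1, 5, 7, 2], [2, 7, 5, 1, 3, 6, 0, 4], [7, 2, 1, 5, 6, 3, 4, 0], [5, 1, 7, 2, 0, 4, 6, 3], [1, 5, 2, 7, 4, 0, 3, 6], [0, 5, 6, 2, 1, 4, 3, 7], [5, 0, 2, 6, 4, 1, 7, 3], [6, 2, 5, 0, 3, 7, 4, 1], [2, 6, 0, 5, 7, 3,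 1, 4], [1, 4, 7, 3, 0, 5, 2, 6], [4, 1, 3, 7, 5, 0, 6, 2], [3, 7, 1, 4, 6, 2, 0, 5], [7, 3, 4, 1, 2, 6, 5, 0]],
   [[0, 0, 0, 0, 0, 0, 0, 0], [0, 0, 0, 0, 0, 0, 0, 0], [0, 0, 0, 0, 0, 0, 0, 0], [0, 0, 0, 0, 0, 0, 0, 0], [0, 0, 0, 0, 0, 0, 0, 0], [0, 0, 0, 0, 0, 0, 0, 0], [0, 0, 0, 0, 0, 0, 0, 0], [0, 0, 0, 0, 0, 0, 0, 0], [4, 4, 8, 8, 4, 4, 8, 8], [4, 4, 8, 8, 4, 4, 8, 8], [8, 8, 4, 4, 8, 8, 4, 4], [8, 8, 4, 4, 8, 8, 4, 4], [4, 4, 8, 8, 4, 4, 8, 8], [4, 4, 8, 8, 4, 4, 8, 8], [8, 8, 4, 4, 8, 8, 4, 4], [8, 8, 4, 4, 8, 8, 4, 4], [4, 4, 8, 8, 4, 4, 8, 8], [4, 4, 8, 8, 4, 4, 8, 8], [8, 8, 4, 4, 8, 8, 4, 4], [8, 8, 4, 4, 8, 8, 4, 4], [4, 4, 8, 8, 4, 4, 8, 8], [4, 4, 8, 8, 4, 4, 8, 8], [8, 8, 4, 4, 8, 8, 4, 4], [8, 8, 4, 4,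 8, 8, 4, 4]],
   [[1, 1, 1], [1, 2, 2], [1, 2, 1], [1, 1, 2], [2, 1, 2], [2, 2, 1], [2, 1, 1], [2, 2, 2]])

/-- permutation, exponents and dual vectors of the monomial character C2 -/
def mon_C2 : List (List ℕ) × List (List ℕ) × List (List ℕ) :=
  ([[0, 1, 2, 3, 4, 5, 6, 7], [1, 0, 3, 2, 5, 4, 7, 6], [2, 3, 1, 0, 6, 7, 5, 4], [3, 2, 0, 1, 7, 6, 4, 5], [4, 5, 7, 6, 0, 1, 3, 2], [5, 4, 6, 7, 1, 0, 2, 3], [6, 7, 4, 5, 2, 3, 0, 1], [7, 6, 5, 4, 3, 2, 1, 0], [3, 6, 4, 0, 2, 7, 1, 5], [6, 3, 0, 4, 7, 2, 5, 1], [0, 4, 3, 6, 5, 1, 2, 7], [4, 0, 6, 3, 1, 5, 7, 2], [2, 7, 5, 1, 3, 6, 0, 4], [7, 2, 1, 5, 6, 3, 4, 0], [5, 1, 7, 2, 0, 4, 6, 3], [1, 5, 2, 7, 4, 0, 3, 6], [0, 5, 6, 2, 1, 4, 3, 7], [5, 0, 2, 6, 4, 1, 7, 3], [6, 2, 5,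 0, 3, 7, 4, 1], [2, 6, 0, 5, 7, 3, 1, 4], [1, 4, 7, 3, 0, 5, 2, 6], [4, 1, 3, 7, 5, 0, 6, 2], [3, 7, 1, 4, 6, 2, 0, 5], [7, 3, 4, 1, 2, 6, 5, 0]],
   [[0, 0, 0, 0, 0, 0, 0, 0], [0, 0, 0, 0, 0, 0, 0, 0], [0, 0, 0, 0, 0, 0, 0, 0], [0, 0, 0, 0, 0, 0, 0, 0], [0, 0, 0, 0, 0, 0, 0, 0], [0, 0, 0, 0, 0, 0, 0, 0], [0, 0, 0, 0, 0, 0, 0, 0], [0, 0, 0, 0, 0, 0, 0, 0], [8, 8, 4, 4, 8, 8, 4, 4], [8, 8, 4, 4, 8, 8, 4, 4], [4, 4, 8, 8, 4, 4, 8, 8], [4, 4, 8, 8, 4, 4, 8, 8], [8, 8, 4, 4, 8, 8, 4, 4], [8, 8, 4, 4, 8, 8, 4, 4], [4, 4, 8, 8, 4, 4, 8, 8], [4, 4, 8, 8, 4, 4, 8, 8], [8, 8, 4, 4, 8, 8, 4, 4], [8, 8, 4, 4, 8, 8, 4, 4], [4, 4, 8, 8, 4, 4, 8, 8], [4, 4, 8, 8, 4, 4, 8, 8], [8, 8, 4, 4, 8, 8, 4, 4], [8, 8, 4, 4, 8, 8, 4, 4], [4,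 4, 8, 8, 4, 4, 8, 8], [4, 4, 8, 8, 4, 4, 8, 8]],
   [[1, 1, 1], [1, 2, 2], [1, 2, 1], [1, 1, 2], [2, 1, 2], [2, 2, 1], [2, 1, 1], [2, 2, 2]])

/-- permutation, exponents and dual vectors of the monomial character B -/
def mon_B : List (List ℕ) × List (List ℕ) × List (List ℕ) :=
  ([[0, 1, 2, 3, 4, 5, 6, 7, 8, 9, 10, 11], [1, 0, 3, 2, 5, 4, 7, 6, 11, 10, 9, 8], [2, 3, 1, 0, 6, 7, 5, 4, 10, 8, 11, 9], [3, 2, 0, 1, 7, 6, 4, 5, 9, 11, 8, 10], [4, 5, 7, 6, 0, 1, 3, 2, 9, 8, 11, 10], [5, 4, 6, 7, 1, 0, 2, 3, 10, 11, 8, 9], [6, 7, 4, 5, 2, 3, 0, 1, 8, 10, 9, 11], [7, 6, 5, 4, 3, 2, 1, 0, 11, 9, 10, 8], [0, 4, 9, 8, 1, 5, 11, 10, 3, 2, 7, 6], [4, 0, 8, 9, 5, 1, 10, 11, 6, 7, 2, 3], [8, 9, 0, 4, 10, 11, 1, 5, 2, 6, 3, 7], [9,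 8, 4, 0, 11, 10, 5, 1, 7, 3, 6, 2], [1, 5, 10, 11, 0, 4, 8, 9, 2, 3, 6, 7], [5, 1, 11, 10, 4, 0, 9, 8, 7, 6, 3, 2], [10, 11, 5, 1, 8, 9, 4, 0, 6, 2, 7, 3], [11, 10, 1, 5, 9, 8, 0, 4, 3, 7, 2, 6], [2, 6, 8, 10, 3, 7, 9, 11, 0, 1, 4, 5], [6, 2, 10, 8, 7, 3, 11, 9, 5, 4, 1, 0], [8, 10, 6, 2, 9, 11, 7, 3, 4, 0, 5, 1], [10, 8, 2, 6, 11, 9, 3, 7, 1, 5, 0, 4], [3, 7, 11, 9, 2, 6, 10, 8, 1, 0, 5, 4], [7, 3, 9, 11, 6, 2, 8, 10, 4, 5, 0, 1], [9, 11, 3, 7, 8, 10, 2, 6, 0, 4, 1, 5], [11, 9, 7, 3, 10, 8, 6, 2, 5, 1, 4, 0]],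
   [[0, 0, 0, 0, 0, 0, 0, 0, 0, 0, 0, 0], [0, 0, 0, 0, 0, 0, 0, 0, 0, 0, 0, 0], [0, 0, 0, 0, 0, 0, 0, 0, 0, 0, 0, 0], [0, 0, 0, 0, 0, 0, 0, 0, 0, 0, 0, 0], [0, 0, 0, 0, 0, 0, 0, 0, 0, 0, 0, 0], [0, 0, 0, 0, 0, 0, 0, 0, 0, 0, 0, 0], [0, 0, 0, 0, 0, 0, 0, 0, 0, 0, 0, 0], [0, 0, 0, 0, 0, 0, 0, 0, 0, 0, 0, 0], [0, 0, 0, 0, 0, 0, 0, 0, 0, 0, 0, 0], [0, 0, 0, 0, 0, 0, 0, 0, 0, 0, 0, 0], [0, 0, 0, 0, 0, 0, 0, 0, 0, 0, 0, 0], [0, 0, 0, 0, 0, 0, 0, 0, 0, 0, 0, 0], [0, 0, 0, 0, 0, 0, 0, 0, 0, 0, 0, 0], [0, 0, 0, 0, 0, 0, 0, 0, 0, 0, 0, 0], [0, 0, 0, 0, 0, 0, 0, 0, 0, 0, 0, 0], [0, 0, 0, 0, 0, 0, 0, 0, 0, 0, 0, 0], [0, 0, 0, 0, 0, 0, 0, 0, 0, 0, 0, 0], [0, 0, 0, 0, 0, 0, 0, 0, 0, 0, 0, 0], [0, 0, 0, 0, 0, 0, 0, 0, 0, 0, 0, 0], [0,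 0, 0, 0, 0, 0, 0, 0, 0, 0, 0, 0], [0, 0, 0, 0, 0, 0, 0, 0, 0, 0, 0, 0], [0, 0, 0, 0, 0, 0, 0, 0, 0, 0, 0, 0], [0, 0, 0, 0, 0, 0, 0, 0, 0, 0, 0, 0], [0, 0, 0, 0, 0, 0, 0, 0, 0, 0, 0, 0]],
   [[1, 1, 0], [1, 2, 0], [1, 0, 1], [1, 0, 2], [2, 1, 0], [2, 2, 0], [2, 0, 1], [2, 0, 2], [0, 1, 1], [0, 1, 2], [0, 2, 1], [0, 2, 2]])

end CfsgLib.AltNineCube.Data
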