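import Cfsg.Agent.AltNineCube.Family

/-!
# Weighted plane configurations with prescribed moments
-/

set_option autoImplicit false
set_option maxRecDepth 20000

namespace CfsgLib.AltNineCube

open CfsgLib.TIThree.Rows

/-- The possible decompositions. -/
def states : List (List (List ℤ)) :=
  [[[0, 0, 0, 0, 1, 1], [1, 0, 0, 0, 1, -1], [1, 0, 0, -1, 0, 0], [0, 1, 0, 0, 0, 0],
    [0, 0, 1, 0, 0, 0], [1, 1, 1, 0, 0, 0], [0, 0, 0, 0, 1, 0], [0, 0, 0, 1, 0, 1],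
    [1, 1, 1, 0, 1, 1]],
  [[0, 0, 0, 0, 1, 1], [1, 0, 0, -1, 0, 0], [1, 1, 1, 0, 0, 0], [0, 0, 0, 0, 1, 0],
    [1, 0, 0, 0, 1, 0], [1, 1, 1, 0, 1, 0], [0, 1, 0, 0, 0, 1], [0, 0, 1, 0, 0, 1],
    [0, 0, 0, 1, 0, 1]],
  [[0, 0, 0, 0, 1, 1], [1, 0, 0, -1, 0, -1], [0, 0, 0, 0, 1, -1], [0, 1, 0, 0, 0, 0],
    [0, 0, 1, 0, 0, 0], [1, 1, 1, 0, 0, 0], [0, 0, 0, 1, 0, 0], [1, 0, 0, 0, 1, 0],
    [1, 1, 1, 0, 1, 1]],
  [[0, 0, 0, 0, 1, 1], [1, 0, 0, -1, 0, -1], [0, 1, 0, 0, 0, 0], [0, 0, 1, 0, 0, 0],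
    [0, 0, 0, 1, 0, 0], [0, 0, 0, 0, 1, 0], [1, 0, 0, 0, 1, 0], [1, 1, 1, 0, 1, 0],
    [0, 0, 0, 0, 0, 1], [1, 1, 1, 0, 0, 1]],
  [[0, 0, 0, 0, 1, 1], [1, 0, 0, -1, 1, -1], [1, 0, 0, 0, 0, 0], [0, 1, 0, 0, 0, 0],
    [0, 0, 1, 0, 0, 0], [1, 1, 1, 0, 0, 0], [0, 0, 0, 1, 1, 0], [0, 0, 0, 0, 0, 1],
    [1, 1, 1, 0, 1, 1]],
  [[0, 0, 0, 0, 1, 1], [1, 1, 1, -1, 0, 0], [1, 0, 0, 0, 0, 0], [0, 0, 0, 0, 1, 0],
    [1, 1, 0, 0, 1, 0], [1, 0, 1, 0, 1, 0], [0, 0, 0, 0, 0, 1], [0, 0, 0, 0, 0, 1],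
    [0, 1, 1, 1, 0, 1]],
  [[0, 0, 0, 0, 1, 1], [1, 0, 0, -1, 0, 0], [1, 1, 1, 0, 0, 0], [0, 0, 0, 0, 1, 0],
    [1, 1, 0, 0, 1, 0], [1, 0, 1, 0, 1, 0], [0, 0, 0, 0, 0, 1], [0, 1, 1, 0, 0, 1],
    [0, 0, 0, 1, 0, 1]],
  [[0, 0, 0, 0, 1, 1], [1, 0, 0, -1, 0, -1], [0, 1, 1, 0, 0, 0], [0, 0, 0, 1, 0, 0],
    [0, 0, 0, 0, 1, 0], [1, 1, 0, 0, 1, 0], [1, 0, 1, 0, 1, 0], [0, 0, 0, 0, 0, 1],
    [1, 1, 1, 0, 0, 1]],
  [[0, 0, 0, 0, 1, 1], [1, 0, 0, -1, 1, -1], [1, 1, 0, 0, 0, 0], [1, 0, 1, 0, 0, 0],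
    [0, 1, 1, 0, 0, 0], [0, 0, 0, 1, 1, 0], [0, 0, 0, 0, 0, 1], [1, 1, 1, 0, 1, 1]]]

theorem enum_eq : enum specs = states := by decide +kernel

/-- The moment of a function over the entries of one row. -/
def mom (st : List (List ℤ)) (i : Fin 6) (f : ℕ → ℝ) : ℝ :=
  ∑ k ∈ Finset.range st.length, ((st.getD k []).getD (i : ℕ) 0 : ℝ) * f k

/-- Nonzero weights and points in the plane with the prescribed moments in every row. -/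
structure Config (st : List (List ℤ)) (d x y : ℕ → ℝ) : Prop where
  ne : ∀ k, d k ≠ 0
  one : d 0 = 1
  m0 : ∀ i, mom st i d = 0
  mx : ∀ i, mom st i (fun k => d k * x k) = 0
  my : ∀ i, mom st i (fun k => d k * y k) = 0
  mxx : ∀ i, mom st i (fun k => d k * (x k * x k)) = (defTab 0 i : ℝ) / 2
  mxy : ∀ i, mom st i (fun k => d k * (x k * y k)) = (defTab 1 i : ℝ) / 2
  myy : ∀ i, mom st i (fun k => d k * (y k * y k)) = (defTab 2 i : ℝ) / 2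

/-- Two points of a four point configuration. -/
theorem pair_four {w1 w2 w3 w4 x1 x2 x3 x4 y1 y2 y3 y4 a b c : ℝ} (h4 : w4 ≠ 0)
    (h0 : w1 + w2 + w3 + w4 = 0) (hx : w1 * x1 + w2 * x2 + w3 * x3 + w4 * x4 = 0)
    (hy : w1 * y1 + w2 * y2 + w3 * y3 + w4 * y4 = 0)
    (hxx : w1 * (x1 * x1) + w2 * (x2 * x2) + w3 * (x3 * x3) + w4 * (x4 * x4) = a)
    (hxy : w1 * (x1 * y1) + w2 * (x2 * y2) + w3 * (x3 * y3) + w4 * (x4 * y4) = b)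
    (hyy : w1 * (y1 * y1) + w2 * (y2 * y2) + w3 * (y3 * y3) + w4 * (y4 * y4) = c) :
    (c * (x1 - x2) ^ 2 - 2 * b * ((x1 - x2) * (y1 - y2)) + a * (y1 - y2) ^ 2) * (w1 * w2) =
      (a * c - b ^ 2) * (w1 + w2) := by
  obtain rfl : w3 = -(w1 + w2 + w4) := by linarith
  obtain rfl : x4 = x3 - (w1 * (x1 - x3) + w2 * (x2 - x3)) / w4 := by
    field_simp; linear_combination hx
  obtain rfl : y4 = y3 - (w1 * (y1 - y3) + w2 * (y2 - y3)) / w4 := by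
    field_simp; linear_combination hy
  subst hxx hxy hyy
  field_simp
  ring

/-- Three points with vanishing second moment. -/
theorem triple {w1 w2 w3 x1 x2 x3 y1 y2 y3 c : ℝ} (h1 : w1 ≠ 0) (h2 : w2 ≠ 0) (h3 : w3 ≠ 0)
    (h0 : w1 + w2 + w3 = 0) (hx : w1 * x1 + w2 * x2 + w3 * x3 = 0)
    (hy : w1 * y1 + w2 * y2 + w3 * y3 = 0)
    (hxx : w1 * (x1 * x1) + w2 * (x2 * x2) + w3 * (x3 * x3) = 0)
    (hyy : w1 * (y1 * y1) + w2 * (y2 * y2) + w3 * (y3 * y3) = c) :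
    x1 = x2 ∧ x2 = x3 ∧ (y1 - y2) ^ 2 * (w1 * w2) = c * (w1 + w2) := by
  obtain rfl : w3 = -(w1 + w2) := by linarith
  have hs : (x1 - x2) ^ 2 * (w1 * w2) = 0 := by
    have e : x3 = (w1 * x1 + w2 * x2) / (w1 + w2) := by
      have : w1 + w2 ≠ 0 := fun e => h3 (by rw [e, neg_zero])
      field_simp; linear_combination (-1 : ℝ) * hx
    subst e
    have : w1 + w2 ≠ 0 := fun e => h3 (by rw [e, neg_zero])
    field_simp at hxx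
    linear_combination hxx
  have e12 : x1 = x2 := by
    rcases mul_eq_zero.mp hs with h | h
    · linarith [pow_eq_zero_iff (two_ne_zero) |>.mp h]
    · exact absurd h (mul_ne_zero h1 h2)
  subst e12
  refine ⟨rfl, ?_, ?_⟩
  · exact mul_left_cancel₀ h3 (by linear_combination (-1 : ℝ) * hx)
  · subst hyy
    linear_combination (-(w1 * y1 + w2 * y2 + (w1 + w2) * y3)) * hy

end CfsgLib.AltNineCube
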